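import Cfsg.Agent.Lib.NoDiv.Deep4
import Cfsg.Agent.Lib.NoDiv.Top
import Cfsg.Agent.Lib.NoDiv.CaseA
import Mathlib.Tactic

/-!
# No divisibility and two components: exactly three degrees
-/

set_option autoImplicit false
set_option linter.unusedSectionVars false
set_option linter.style.haveILetI false

namespace Cfsg.Agent.Lib.NoDiv.Main

open Cfsg Module Cfsg.Agent.Lib.NoDiv.Defs Cfsg.Agent.Lib.NoDiv.XLemma Cfsg.Agent.Lib.NoDiv.Camina
open Cfsg.Agent.Lib.NoDiv.Mid Cfsg.Agent.Lib.NoDiv.Deep4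
open Cfsg.Agent.Lib.Char.Basic Cfsg.Agent.Lib.Char.Ortho Cfsg.Agent.Lib.Char.Complete
open Cfsg.Agent.Lib.Char.Conj Cfsg.Agent.Lib.Char.Clifford Cfsg.Agent.Lib.Char.Induced
open Cfsg.Agent.Lib.Char.CliffordCorr Cfsg.Agent.Lib.Char.Linear Cfsg.Agent.Lib.Char.Degree

universe u

/-- Nilpotency of `E`. -/
theorem nil_E {G : Type u} [Group G] [Finite G] {E : Subgroup G} (hE : E.Normal) {z : G} {p : ℕ}
    (hp : p.Prime) (hpE : ¬ p ∣ Nat.card E) (hzp : z ^ p = 1) (hz1 : z ≠ 1)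
    (hcf : ∀ e ∈ E, ∃ b : G, b * z * b⁻¹ = z * e) : Group.IsNilpotent E := by
  classical
  have hcard : Nat.card (Subgroup.zpowers z) = p := by
    haveI : Fact p.Prime := ⟨hp⟩
    rw [Nat.card_zpowers]
    exact orderOf_eq_prime hzp hz1
  haveI : Fact p.Prime := ⟨hp⟩
  haveI : IsCyclic (Subgroup.zpowers z) := inferInstance
  refine Cfsg.Agent.Lib.Coprime.FrobCountGroup.isNilpotent_of_fpf E (Subgroup.zpowers z) ?_ ?_ ?_
  · intro h
    have : z ∈ (⊥ : Subgroup G) := by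
      rw [← h]
      exact Subgroup.mem_zpowers z
    exact hz1 this
  · intro x _
    rw [Subgroup.mem_normalizer_iff]
    intro h
    constructor
    · intro hh
      exact hE.conj_mem h hh x
    · intro hh
      have := hE.conj_mem _ hh x⁻¹
      have h2 : x⁻¹ * (x * h * x⁻¹) * x⁻¹⁻¹ = h := by group
      rwa [h2] at this
  · intro e he he1 u hu heu
    -- `z` commutes with `u`
    let S : Subgroup (Subgroup.zpowers z) :=
      (Subgroup.centralizer ({u} : Set G)).subgroupOf (Subgroup.zpowers z)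
    have hS : S = ⊥ ∨ S = ⊤ := by
      haveI : Fact (Nat.Prime (Nat.card (Subgroup.zpowers z))) := by
        rw [hcard]
        exact ⟨hp⟩
      exact Subgroup.eq_bot_or_eq_top_of_prime_card S
    have heS : (⟨e, he⟩ : Subgroup.zpowers z) ∈ S := by
      change e ∈ Subgroup.centralizer ({u} : Set G)
      rw [Subgroup.mem_centralizer_singleton_iff]
      exact mul_inv_eq_iff_eq_mul.mp heu
    have hSt : S = ⊤ := by
      rcases hS with h | h
      · exfalso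
        rw [h] at heS
        apply he1
        have := Subgroup.mem_bot.mp heS
        exact congrArg Subtype.val this
      · exact h
    have hzS : (⟨z, Subgroup.mem_zpowers z⟩ : Subgroup.zpowers z) ∈ S := by
      rw [hSt]
      trivial
    have hzS' : z ∈ Subgroup.centralizer ({u} : Set G) := hzS
    have hzu : z * u = u * z := Subgroup.mem_centralizer_singleton_iff.mp hzS'
    obtain ⟨b, hb⟩ := hcf u hu
    have h1 : (z * u) ^ p = 1 := by
      rw [← hb, conj_pow, hzp]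
      simp
    have hc : Commute z u := hzu
    rw [hc.mul_pow, hzp, one_mul] at h1
    have h2 : orderOf u ∣ p := orderOf_dvd_of_pow_eq_one h1
    have h3 : orderOf u ∣ Nat.card E := Subgroup.orderOf_dvd_natCard E hu
    have h4 := Nat.dvd_gcd h2 h3
    rw [(Nat.Prime.coprime_iff_not_dvd hp).mpr hpE] at h4
    exact orderOf_eq_one_iff.mp (Nat.dvd_one.mp h4)

/-- The theorem. -/
theorem main {G : Type u} [Group G] [Finite G] [Group.IsSolvable G] (hnd : NoDiv G)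
    (htwo : Nat.card ((degreeGraph G).induce (degreePrimes G)).ConnectedComponent = 2) :
    Nat.card (charDegrees G) = 3 := by
  classical
  letI : Fintype G := Fintype.ofFinite G
  obtain ⟨C, Z, p, hp, hC, hZn, hZC, hZne, hCt, hab, hCZ, hCp, hfpf, hD, hd⟩ :=
    Cfsg.Agent.Lib.NoDiv.Top.top hnd htwo
  letI : Fintype C := Fintype.ofFinite C
  have t : TopD C Z p := ⟨hp, hC, hZn, hZC, hZne, hCt, hab, hCZ, hCp, hfpf, hD, hd⟩
  apply t.card_three hnd
  have hCnd := t.noDiv_C hnd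
  haveI : Fact p.Prime := ⟨hp⟩
  by_cases hex : ∀ ξ : IrrCharacter C, (ξ : C → ℂ) 1 = 1
  · exact ⟨0, fun ξ h => absurd (hex ξ) h⟩
  push Not at hex
  obtain ⟨ξ₀, hξ₀⟩ := hex
  have hinv : ∀ ξ : IrrCharacter C, (ξ : C → ℂ) 1 ≠ 1 → ∀ g, conjOn hC g (ξ : C → ℂ) = ξ :=
    fun ξ h => (t.mid hnd ξ.2 h).1
  have hdeg : ∀ ξ : IrrCharacter C, (ξ : C → ℂ) 1 = 1 ∨ p ∣ charDegree (ξ : C → ℂ) := by
    intro ξ
    by_cases h : (ξ : C → ℂ) 1 = 1
    · exact Or.inl h
    · exact Or.inr (t.mid hnd ξ.2 h).2.1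
  obtain ⟨L, hLn, hLk, hLp⟩ :=
    Cfsg.Agent.Lib.CharDeep.ThompsonDeg.exists_normal_complement (G := C) (p := p) hdeg
  by_cases hL : commutator C ≤ L
  swap
  · exact Cfsg.Agent.Lib.NoDiv.CaseA.case_a hp hdeg hCnd L hLn hLk hLp hL
  -- the final case
  have hcardE : Nat.card (⁅C, C⁆ : Subgroup G) = Nat.card (commutator C) := by
    rw [← Subgroup.map_subtype_commutator]
    exact Subgroup.card_map_of_injective C.subtype_injective
  have hpE : ¬ p ∣ Nat.card (⁅C, C⁆ : Subgroup G) := by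
    rw [hcardE]
    intro h
    exact hLp (h.trans (Subgroup.card_dvd_of_le hL))
  obtain ⟨g, hg⟩ : ∃ g, g ∉ C := by
    by_contra hcon
    push Not at hcon
    exact hCt (eq_top_iff.mpr fun x _ => hcon x)
  have hgo : g ^ C.index ∈ C := by
    haveI := hC
    exact Subgroup.pow_index_mem C g
  have hko : Nat.Coprime (charDegree (ξ₀ : C → ℂ)) C.index := (t.mid hnd ξ₀.2 hξ₀).2.2.1
  have hk : ∀ c ∈ C, (g * c * g⁻¹ * c⁻¹) ^ charDegree (ξ₀ : C → ℂ) ∈ (⁅C, C⁆ : Subgroup G) := by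
    intro c hc
    have h1 := Camina.pow_mem hC hinv ξ₀.2 hξ₀ g ⟨c, hc⟩
    have h2 := (mem_comm_iff _).2 h1
    simpa [cm] using h2
  have hEZ : (⁅C, C⁆ : Subgroup G) ≤ Z := by
    rw [Subgroup.commutator_le]
    intro a ha b hb
    rw [commutatorElement_def]
    exact hCZ a ha b hb
  obtain ⟨z, hzC, hzp, hzg⟩ := exists_z hp hC hZn hZC hZne hCp (hfpf g hg) hEZ hpE hgo hko hk
  have hcf1 : ∀ h c, c ∈ C → h * c * h⁻¹ * c⁻¹ ∉ (⁅C, C⁆ : Subgroup G) →
      ∀ e ∈ (⁅C, C⁆ : Subgroup G), ∃ b ∈ C, b * c * b⁻¹ = c * e := by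
    intro h c hc hhc e he
    have heC : e ∈ C := (Subgroup.commutator_le_left C C) he
    obtain ⟨b, hb⟩ := class_eq hC hinv h ⟨c, hc⟩
      (fun h1 => hhc ((mem_comm_iff _).2 h1)) (e := ⟨e, heC⟩) ((mem_comm_iff _).1 he)
    exact ⟨b, b.2, congrArg Subtype.val hb⟩
  have hcf2 : ∀ h c, c ∈ C → h * c * h⁻¹ * c⁻¹ ∈ (⁅C, C⁆ : Subgroup G) →
      ∃ b ∈ C, b * c * b⁻¹ = h * c * h⁻¹ := by
    intro h c hc hhc
    obtain ⟨b, hb⟩ := class_conj hC hinv h ⟨c, hc⟩ ((mem_comm_iff _).1 hhc)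
    exact ⟨b, b.2, congrArg Subtype.val hb⟩
  have hz1 : z ≠ 1 := by
    intro h
    apply hzg
    rw [h]
    simp [Subgroup.one_mem]
  have hEn : (⁅C, C⁆ : Subgroup G).Normal := by
    haveI := hC
    exact Subgroup.commutator_normal C C
  have hnil : Group.IsNilpotent (⁅C, C⁆ : Subgroup G) := by
    refine nil_E hEn hp hpE hzp hz1 ?_
    intro e he
    obtain ⟨b, -, hb⟩ := hcf1 g z hzC hzg e he
    exact ⟨b, hb⟩
  have hCam : Cam C ⁅C, C⁆ g z C.index p :=
    ⟨hC, rfl, hab, hcf1, hcf2, hg, Nat.pos_of_ne_zero Subgroup.index_ne_zero_of_finite, hgo,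
      ⟨_, hko, hk⟩, hp, hpE, hzC, hzp, hzg, hnil⟩
  exact case_b hCam hCnd fun ξ hξ => (t.mid hnd ξ.2 hξ).2.2.1

end Cfsg.Agent.Lib.NoDiv.Main
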