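import Cfsg.Agent.Lib.NoDiv.Deep3
import Cfsg.Agent.Lib.Coprime.FrobCountGroup
import Cfsg.Agent.Lib.CharDeep.ThompsonDeg
import Mathlib.Tactic

/-!
# No divisibility: the final case and the main theorem
-/

set_option autoImplicit false
set_option linter.unusedSectionVars false
set_option linter.style.haveILetI false

namespace Cfsg.Agent.Lib.NoDiv.Deep4

open Cfsg Module Cfsg.Agent.Lib.NoDiv.Defs Cfsg.Agent.Lib.NoDiv.XLemma Cfsg.Agent.Lib.NoDiv.Camina
open Cfsg.Agent.Lib.NoDiv.Mid Cfsg.Agent.Lib.NoDiv.Deep1 Cfsg.Agent.Lib.NoDiv.Deep2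
open Cfsg.Agent.Lib.NoDiv.Deep3
open Cfsg.Agent.Lib.NoDiv.GLA Cfsg.Agent.Lib.NoDiv.GLB Cfsg.Agent.Lib.NoDiv.GLC
open Cfsg.Agent.Lib.Char.Basic Cfsg.Agent.Lib.Char.Ortho Cfsg.Agent.Lib.Char.Complete
open Cfsg.Agent.Lib.Char.Conj Cfsg.Agent.Lib.Char.Clifford Cfsg.Agent.Lib.Char.Induced
open Cfsg.Agent.Lib.Char.CliffordCorr Cfsg.Agent.Lib.Char.Linear Cfsg.Agent.Lib.Char.Degree

universe u

section CaseB

variable {G : Type u} [Group G] [Fintype G] {C E : Subgroup G} [Fintype C] {g z : G} {o p : ℕ}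

/-- The final case. -/
theorem case_b (h : Cam C E g z o p) (hnd : NoDiv C)
    (hcop : ∀ ξ : IrrCharacter C, (ξ : C → ℂ) 1 ≠ 1 → Nat.Coprime (charDegree (ξ : C → ℂ)) o) :
    ∃ x, ∀ ξ : IrrCharacter C, (ξ : C → ℂ) 1 ≠ 1 → charDegree (ξ : C → ℂ) = x := by
  classical
  by_cases hE1 : E = ⊥
  · refine ⟨0, fun ξ hξ => ?_⟩
    exfalso
    apply hξ
    apply isIrr_deg_one_of_comm _ ξ.2
    intro a b
    have h1 := h.cE a a.2 b b.2
    rw [hE1] at h1
    have h2 : (a : G) * b * (a : G)⁻¹ * (b : G)⁻¹ = 1 := h1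
    apply Subtype.ext
    have h3 : (a : G) * b = ((a : G) * b * (a : G)⁻¹ * (b : G)⁻¹) * (b * a) := by group
    simp only [Subgroup.coe_mul]
    rw [h3, h2, one_mul]
  obtain ⟨K, -, hc⟩ := exists_chief (inferInstance : (⊥ : Subgroup G).Normal) h.nE bot_le
    (Ne.symm hE1)
  obtain ⟨l, hl, hEl⟩ := elem h hc le_rfl
  set F' := (relCen hc.nK C E).subgroupOf C with hF'
  set Z' := (relCen hc.nK C C).subgroupOf C with hZ'
  obtain ⟨hFn, hZn, hZF, hab, hCZ, hfpf, hne, hα1⟩ := F_data h hc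
  have hα1' : 1 < F'.index := hα1
  letI : Fintype F' := Fintype.ofFinite _
  obtain ⟨hα, δ, hδ, hδ1, hInd⟩ := index_mem_of hFn hZn hZF hne hCZ hfpf
  have hIndd : charDegree (indFun F' (fun c => ((δ c : ℂˣ) : ℂ))) = F'.index := by
    apply charDegree_eq_of_eq_natCast
    rw [indFun_one]
    simp
  have hIndne : indFun F' (fun c => ((δ c : ℂˣ) : ℂ)) 1 ≠ 1 := by
    intro h1
    have h2 := (charDegree_eq_one_iff (isCharacter_of_isIrrCharacter hInd)).mpr h1
    have h3 := hIndd.symm.trans h2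
    omega
  have hcopα : Nat.Coprime ((relCen hc.nK C E).relIndex C) o := by
    have h1 := hcop ⟨_, hInd⟩ hIndne
    change Nat.Coprime (charDegree (indFun F' (fun c => ((δ c : ℂˣ) : ℂ)))) o at h1
    rw [hIndd] at h1
    exact h1
  have hFab := F_abelian h hnd hc hl hEl hcopα
  have hF'comm : ∀ a b : F', a * b = b * a := by
    intro a b
    have h1 : ((a : C) : G) * (b : C) * ((a : C) : G)⁻¹ * ((b : C) : G)⁻¹ ∈
        (⁅relCen hc.nK C E, relCen hc.nK C E⁆ : Subgroup G) :=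
      Subgroup.commutator_mem_commutator a.2 b.2
    rw [hFab] at h1
    have h2 : ((a : C) : G) * (b : C) * ((a : C) : G)⁻¹ * ((b : C) : G)⁻¹ = 1 := h1
    apply Subtype.ext
    apply Subtype.ext
    have h3 : ((a : C) : G) * (b : C) = (((a : C) : G) * (b : C) * ((a : C) : G)⁻¹ *
        ((b : C) : G)⁻¹) * ((b : C) * ((a : C) : G)) := by group
    simp only [Subgroup.coe_mul]
    rw [h3, h2, one_mul]
  refine ⟨F'.index, fun χ hχ1 => ?_⟩
  have hχc := isCharacter_of_isIrrCharacter χ.2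
  have hrne : (fun n : F' => (χ : C → ℂ) n) ≠ 0 := by
    intro h0
    have := congrFun h0 1
    apply irr_one_ne_zero χ.2
    simpa using this
  have hcf : IsClassFunction F' (fun n : F' => (χ : C → ℂ) n) :=
    isClassFunction_of_isCharacter (isCharacter_restrict F' hχc)
  obtain ⟨ξ, hξ, hcon⟩ := exists_irr_constituent hcf hrne
  have hξ1 : ξ 1 = 1 := isIrr_deg_one_of_comm hF'comm hξ
  obtain ⟨e, he0, hdeg, -⟩ := deg_data hFn hξ χ.2 hcon
  have hξd : charDegree ξ = 1 := (charDegree_eq_one_iff (isCharacter_of_isIrrCharacter hξ)).mpr hξ1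
  rw [hξd, mul_one] at hdeg
  have hχd : charDegree (χ : C → ℂ) ≠ 1 := fun hd => hχ1 ((charDegree_eq_one_iff hχc).mp hd)
  rcases xlemma hFn hZF hZn hab hCZ hfpf hnd hξ χ.2 hχ1 hcon with hc1 | hc2
  · have hI : Cfsg.Agent.Lib.Char.CliffordCorr.inertia hFn ξ = F' := by
      apply le_antisymm
      · intro g hg
        exact hc1 g hg
      · exact le_inertia hFn (isClassFunction_of_isIrrCharacter hξ)
    rw [hI] at hdeg
    by_contra hne'
    have hpos : 0 < F'.index := by omega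
    have hlt : F'.index < charDegree (χ : C → ℂ) := by
      have h1 : F'.index ≤ charDegree (χ : C → ℂ) := by
        rw [hdeg]
        exact Nat.le_mul_of_pos_left _ he0
      exact lt_of_le_of_ne h1 (Ne.symm hne')
    refine hnd _ hα _ ⟨χ, rfl⟩ hα1 hlt ?_
    rw [hdeg]
    exact dvd_mul_left _ _
  · exfalso
    apply hδ1
    obtain ⟨lam, hlam⟩ := exists_hom_of_deg_one (isCharacter_of_isIrrCharacter hξ) hξ1
    refine MonoidHom.ext fun c => ?_
    have h1 := congrFun (hc2 δ hδ) c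
    beta_reduce at h1
    rw [hlam] at h1
    beta_reduce at h1
    have h2 : ((lam c : ℂˣ) : ℂ) ≠ 0 := (lam c).ne_zero
    have h3 : ((δ c : ℂˣ) : ℂ) = 1 := by
      have h4 : (((δ c : ℂˣ) : ℂ) - 1) * ((lam c : ℂˣ) : ℂ) = 0 := by
        rw [sub_mul, h1, one_mul, sub_self]
      exact sub_eq_zero.mp ((mul_eq_zero.mp h4).resolve_right h2)
    exact Units.ext h3

end CaseB

section Z

variable {G : Type u} [Group G] [Finite G]

/-- Existence of the element `z`. -/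
theorem exists_z {C Z : Subgroup G} {g : G} {p o k : ℕ} (hp : p.Prime) (hC : C.Normal)
    (hZn : Z.Normal) (hZC : Z ≤ C) (hZne : Z ≠ C)
    (hCp : ∀ c ∈ C, c ^ p ∈ Z) (hfpf : ∀ c ∈ C, g * c * g⁻¹ * c⁻¹ ∈ Z → c ∈ Z)
    (hEZ : (⁅C, C⁆ : Subgroup G) ≤ Z) (hpE : ¬ p ∣ Nat.card (⁅C, C⁆ : Subgroup G))
    (hgo : g ^ o ∈ C) (hko : Nat.Coprime k o)
    (hk : ∀ c ∈ C, (g * c * g⁻¹ * c⁻¹) ^ k ∈ (⁅C, C⁆ : Subgroup G)) :
    ∃ z ∈ C, z ^ p = 1 ∧ g * z * g⁻¹ * z⁻¹ ∉ (⁅C, C⁆ : Subgroup G) := by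
  classical
  set E : Subgroup G := ⁅C, C⁆ with hE
  haveI hEn : E.Normal := by
    haveI := hC
    exact Subgroup.commutator_normal C C
  have hex : ∃ c ∈ C, c ∉ Z := by
    by_contra hcon
    push Not at hcon
    exact hZne (le_antisymm hZC hcon)
  obtain ⟨c₀, hc₀, hc₀Z⟩ := hex
  obtain ⟨c₁, hc₁, hc₁Z⟩ := exists_comm_mod hZC hZn g (fun a ha => hC.conj_mem a ha g) hfpf c₀ hc₀
  set x₀ := g * c₁ * g⁻¹ * c₁⁻¹ with hx₀
  have hx₀C : x₀ ∈ C := C.mul_mem (hC.conj_mem c₁ hc₁ g) (C.inv_mem hc₁)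
  have hx₀Z : x₀ ∉ Z := by
    intro h
    apply hc₀Z
    have h1 := Z.mul_mem h (Z.inv_mem hc₁Z)
    simpa using h1
  -- `p`-part
  have hn0 : orderOf x₀ ≠ 0 := (orderOf_pos x₀).ne'
  obtain ⟨a, s, hs, hn⟩ := Nat.exists_eq_pow_mul_and_not_dvd hn0 p hp.ne_one
  set y := x₀ ^ s with hy
  have hyC : y ∈ C := C.pow_mem hx₀C s
  have hypow : y ^ p ^ a = 1 := by
    rw [hy, ← pow_mul, mul_comm, ← hn, pow_orderOf_eq_one]
  have hyZ : y ∉ Z := by
    intro h
    haveI := hZn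
    apply hx₀Z
    have hcp : Nat.Coprime s p := ((Nat.Prime.coprime_iff_not_dvd hp).mpr hs).symm
    have h1 : (QuotientGroup.mk' Z x₀) ^ s = 1 := by
      rw [← map_pow]
      exact (QuotientGroup.eq_one_iff _).2 h
    have h2 : (QuotientGroup.mk' Z x₀) ^ p = 1 := by
      rw [← map_pow]
      exact (QuotientGroup.eq_one_iff _).2 (hCp _ hx₀C)
    have h3 := pow_gcd_eq_one.mpr ⟨h1, h2⟩
    rw [Nat.Coprime.gcd_eq_one hcp, pow_one] at h3
    simpa using h3
  have hyE : y ∉ E := fun h => hyZ (hEZ h)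
  -- the last power outside `E`
  have hex2 : ∃ j, y ^ p ^ j ∈ E := ⟨a, by rw [hypow]; exact E.one_mem⟩
  have hj := Nat.find_spec hex2
  have hjmin := fun m => Nat.find_min hex2 (m := m)
  set j := Nat.find hex2 with hjdef
  have hj0 : j ≠ 0 := by
    intro h0
    rw [h0] at hj
    exact hyE (by simpa using hj)
  obtain ⟨i, hi⟩ : ∃ i, j = i + 1 := ⟨j - 1, by omega⟩
  set z := y ^ p ^ i with hz
  have hzE : z ∉ E := hjmin i (by omega)
  have hzC : z ∈ C := C.pow_mem hyC _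
  have hzp : z ^ p = 1 := by
    have h1 : z ^ p ∈ E := by
      rw [hz, ← pow_mul, ← pow_succ, ← hi]
      exact hj
    have h2 : (z ^ p) ^ p ^ a = 1 := by
      have key : ∀ (u : G) (A B D : ℕ), ((u ^ A) ^ B) ^ D = (u ^ D) ^ (A * B) := by
        intro u A B D
        simp only [← pow_mul]
        congr 1
        ring
      have h2' : (z ^ p) ^ p ^ a = (y ^ p ^ a) ^ (p ^ i * p) := key y (p ^ i) p (p ^ a)
      rw [h2', hypow, one_pow]
    have h3 : orderOf (z ^ p) ∣ p ^ a := orderOf_dvd_of_pow_eq_one h2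
    have h4 : orderOf (z ^ p) ∣ Nat.card E := by
      have := Subgroup.orderOf_dvd_natCard E h1
      exact this
    have h5 : Nat.Coprime (p ^ a) (Nat.card E) :=
      Nat.Coprime.pow_left a ((Nat.Prime.coprime_iff_not_dvd hp).mpr hpE)
    have h6 := Nat.dvd_gcd h3 h4
    rw [h5] at h6
    exact orderOf_eq_one_iff.mp (Nat.dvd_one.mp h6)
  refine ⟨z, hzC, hzp, fun hzg => hzE ?_⟩
  -- `z` is `m`-th power of `x₀` with `m = s p ^ i`
  set m := s * p ^ i with hm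
  have hzm : z = x₀ ^ m := by
    rw [hz, hy, ← pow_mul]
  let π := QuotientGroup.mk' E
  have hπ : ∀ x, π x = 1 ↔ x ∈ E := fun x => by simp [π]
  have hcomm : ∀ a ∈ C, ∀ b ∈ C, π a * π b = π b * π a := by
    intro a ha b hb
    have h0 : a * b * a⁻¹ * b⁻¹ ∈ E := Subgroup.commutator_mem_commutator ha hb
    have h1 := (hπ _).2 h0
    rw [map_mul, map_mul, map_mul, map_inv, map_inv] at h1
    calc π a * π b = (π a * π b * (π a)⁻¹ * (π b)⁻¹) * (π b * π a) := by group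
      _ = π b * π a := by rw [h1, one_mul]
  -- conjugation by `g` on the image of `C`
  have hg1 : π g * π c₁ * (π g)⁻¹ = π x₀ * π c₁ := by
    have e1 : π x₀ = π g * π c₁ * (π g)⁻¹ * (π c₁)⁻¹ := by
      rw [hx₀, map_mul, map_mul, map_mul, map_inv, map_inv]
    rw [e1]
    group
  have hc1comm : Commute (π x₀) (π c₁) := hcomm _ hx₀C _ hc₁
  set c := c₁ ^ m with hc
  have hcC : c ∈ C := C.pow_mem hc₁ m
  have hg2 : π g * π c * (π g)⁻¹ = π z * π c := by
    rw [hc, hzm, map_pow, map_pow]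
    have h1 : π g * (π c₁) ^ m * (π g)⁻¹ = (π g * π c₁ * (π g)⁻¹) ^ m := by
      rw [conj_pow]
    rw [h1, hg1, hc1comm.mul_pow]
  have hg3 : π g * π z * (π g)⁻¹ = π z := by
    have h1 := (hπ _).2 hzg
    rw [map_mul, map_mul, map_mul, map_inv, map_inv] at h1
    exact mul_inv_eq_one.mp h1
  have hiter : ∀ t : ℕ, (π g) ^ t * π c * ((π g) ^ t)⁻¹ = (π z) ^ t * π c := by
    intro t
    induction t with
    | zero => simp
    | succ t ih =>
      calc (π g) ^ (t + 1) * π c * ((π g) ^ (t + 1))⁻¹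
          = π g * ((π g) ^ t * π c * ((π g) ^ t)⁻¹) * (π g)⁻¹ := by
            rw [pow_succ']
            group
        _ = π g * ((π z) ^ t * π c) * (π g)⁻¹ := by rw [ih]
        _ = (π g * (π z) ^ t * (π g)⁻¹) * (π g * π c * (π g)⁻¹) := by group
        _ = (π g * π z * (π g)⁻¹) ^ t * (π g * π c * (π g)⁻¹) := by rw [conj_pow]
        _ = (π z) ^ t * (π z * π c) := by rw [hg3, hg2]
        _ = (π z) ^ (t + 1) * π c := by rw [pow_succ]; group
  have ho1 : (π z) ^ o = 1 := by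
    have h1 := hiter o
    have h2 : (π g) ^ o * π c = π c * (π g) ^ o := by
      have := hcomm _ hgo _ hcC
      rwa [map_pow] at this
    have h3 : (π g) ^ o * π c * ((π g) ^ o)⁻¹ = π c := by
      rw [h2]
      group
    rw [h3] at h1
    exact (mul_eq_right.mp h1.symm)
  have hk1 : (π z) ^ k = 1 := by
    have h1 : π (x₀ ^ k) = 1 := (hπ _).2 (hk c₁ hc₁)
    rw [map_pow] at h1
    rw [hzm, map_pow, ← pow_mul, mul_comm, pow_mul, h1, one_pow]
  have h3 := pow_gcd_eq_one.mpr ⟨hk1, ho1⟩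
  rw [Nat.Coprime.gcd_eq_one hko, pow_one] at h3
  exact (hπ z).1 h3

end Z

end Cfsg.Agent.Lib.NoDiv.Deep4
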